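/-
Subgroups `L₂(23)` of the Baby Monster.
-/
import Cfsg.Agent.SPOR.BL.Abs
import Cfsg.Agent.SPOR.BL.K0
import Cfsg.Agent.SPOR.BL.K1
import Cfsg.Agent.SPOR.BL.K2
import Cfsg.Agent.SPOR.BM.E2
import Cfsg.Agent.SPOR.BM.Rows
import Cfsg.Agent.SPOR.BM.NT

set_option autoImplicit false
set_option maxHeartbeats 200000
set_option maxRecDepth 100000

namespace CL.BL
open CL.CE CL.K CL.DCE CL.BM Cfsg.Spor Subgroup

/-- `f` is the action of `x` -/
abbrev Rp (f : ℕ → ℕ) (x : Fi23) : Prop := Rep Fi23.φ 31671 f x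

theorem Rp.c {f g : ℕ → ℕ} {x y : Fi23} (hf : Rp f x) (hg : Rp g y) :
    Rp (fun p => f (g p)) (x * y) := Rep.comp E2.ctx.lt hf hg

theorem Rp.iter {f : ℕ → ℕ} {x : Fi23} (hf : Rp f x) (n : ℕ) : Rp (iter f n) (x ^ n) := by
  induction n with
  | zero => exact pow_zero x ▸ rep_id
  | succ n ih => exact fun p hp => (force_eq _ _).trans (pow_succ x n ▸ ih.c hf p hp)

theorem Rp.ne {f g : ℕ → ℕ} {x y : Fi23} (h : (!eqB bs f g) = true) (hf : Rp f x) (hg : Rp g y) :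
    x ≠ y := by
  rintro rfl
  rw [Bool.not_eq_true', ← Bool.not_eq_true] at h
  exact h (List.all_eq_true.2 fun b hb => by
    rw [hf b (E2.ctx.bs_lt b hb), hg b (E2.ctx.bs_lt b hb), Nat.beq_refl])

theorem orbL_succ (f : ℕ → ℕ) (n p : ℕ) : orbL f (n + 1) p = p :: orbL f n (f p) :=
  force_eq p fun q => q :: orbL f n (f q)

theorem length_orbL (f : ℕ → ℕ) (n p : ℕ) : (orbL f n p).length = n := by
  induction n generalizing p with
  | zero => rfl
  | succ n ih => rw [orbL_succ, List.length_cons, ih]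

theorem length_flat (f : ℕ → ℕ) (n : ℕ) (L : List ℕ) :
    (L.flatMap (orbL f n)).length = L.length * n := by
  induction L with
  | nil => simp
  | cons q L ih => rw [List.flatMap_cons, List.length_append, ih, length_orbL, List.length_cons]; ring

theorem Rp.mem_orbL {f : ℕ → ℕ} {x : Fi23} (hf : Rp f x) {n q : ℕ} {z : Fi23}
    (h : q ∈ orbL f n (Fi23.φ z 0)) : ∃ j < n, q = Fi23.φ (x ^ j * z) 0 := by
  induction n generalizing z with
  | zero => exact absurd h List.not_mem_nil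
  | succ n ih =>
    rw [orbL_succ, List.mem_cons] at h
    rcases h with rfl | h
    · exact ⟨0, by omega, by rw [pow_zero, one_mul]⟩
    · rw [hf _ (E2.ctx.lt z 0 (by norm_num)), ← Equiv.Perm.mul_apply, ← map_mul] at h
      obtain ⟨j, hj, e⟩ := ih h
      exact ⟨j + 1, by omega, by rw [e, pow_succ, mul_assoc]⟩

theorem fresh_spec {L : List ℕ} {M : ℕ} (h : fresh L M = true) :
    L.Nodup ∧ ∀ q ∈ L, M.testBit q = false := by
  induction L generalizing M with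
  | nil => simp
  | cons q L ih =>
    have h : (!Nat.testBit M q && force (M ||| 2 ^ q) (fresh L)) = true := h
    rw [force_eq, Bool.and_eq_true, Bool.not_eq_true'] at h
    obtain ⟨h1, h2⟩ := ih h.2
    simp only [Nat.testBit_or, Bool.or_eq_false_iff, Nat.testBit_two_pow, decide_eq_false_iff_not]
      at h2
    exact ⟨List.nodup_cons.2 ⟨fun e => (h2 q e).2 rfl, h1⟩, List.forall_mem_cons.2
      ⟨h.1, fun p hp => (h2 p hp).1⟩⟩

/-- the elements -/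
noncomputable def E (j : ℕ) : Fi23 := evW lam (els.getD j 0)

theorem rP (j : ℕ) : Rp (P j) (E j) := E2.ctx.W _

theorem rQ (j : ℕ) (hj : j < 22 := by omega) : Rp (Q j) (E j)⁻¹ := by
  have h := E2.ctx.eq (allLt_iff.1 inv_ok j hj) ((rP j).c (E2.ctx.W _)) rep_id
  rw [← eq_inv_of_mul_eq_one_right h]
  exact E2.ctx.W _

theorem rcF (e m : ℕ) : Rp (cF e m) (E 3 ^ e * E 4 ^ m) := ((rP 3).iter e).c ((rP 4).iter m)

theorem rcI (e m : ℕ) : Rp (cI e m) (E 3 ^ e * E 4 ^ m)⁻¹ := by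
  rw [mul_inv_rev, ← inv_pow, ← inv_pow]
  exact ((rQ 4).iter m).c ((rQ 3).iter e)

theorem rvF (i e m : ℕ) : Rp (vF i e m) (E i * (E 3 ^ e * E 4 ^ m)⁻¹) := (rP i).c (rcI e m)

theorem rvI (i e m : ℕ) (hi : i < 22 := by omega) :
    Rp (vI i e m) (E i * (E 3 ^ e * E 4 ^ m)⁻¹)⁻¹ := by
  rw [mul_inv_rev, inv_inv]
  exact (rcF e m).c (rQ i hi)

theorem hf : HF (E 0) (E 1) (E 2) (E 3) (E 4) := by
  have h := rel_ok
  simp only [relOK, Bool.and_eq_true] at h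
  obtain ⟨h1, h2, h3, h4, h5, h6, h7, h8, h9, h10⟩ := h
  have w := (rP 3).c (rP 4)
  have T : Trip (E 0) (E 1) (E 3 * E 4) := ⟨E2.ctx.eq h1 ((rP 0).iter _) rep_id,
    Rp.ne h2 (rP 0) rep_id, E2.ctx.eq h3 ((rP 1).iter _) rep_id,
    E2.ctx.eq h4 (((rP 1).c (rP 0)).c (rQ 1)) ((rP 0).iter _), E2.ctx.eq h5 (w.c w) rep_id,
    E2.ctx.eq h6 ((w.c (rP 1)).c w) (rQ 1),
    E2.ctx.eq h7 (((((rP 0).c w).c (rP 0)).c w).c (rP 0)) w⟩
  refine ⟨T, fun n hn => ?_, fun e he m hm j hj h => ?_, fun e he m hm hm' i hi h => ?_⟩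
  · let S : Set Fi23 := {n | ∃ e < 2, ∃ m < 4, ∃ j < 5, ∃ i < 11,
      n = E 3 ^ e * E 4 ^ m * E 2 ^ j * E 1 ^ i}
    have h11 : S ⊆ normalizer (zpowers (E 1) : Set Fi23) := by
      rintro _ ⟨e, -, m, -, j, -, i, -, rfl⟩
      refine mul_mem (mul_mem (mul_mem (pow_mem ?_ _) (pow_mem ?_ _)) (pow_mem ?_ _))
        (pow_mem (le_normalizer (mem_zpowers _)) _) <;> rw [CL.FiN.mem_normalizer_zpowers]
      · rw [E2.ctx.eq h8 (((rP 3).c (rP 1)).c (rQ 3)) (rP 1)]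
        exact mem_zpowers _
      · rw [E2.ctx.eq h9 (((rP 4).c (rP 1)).c (rQ 4)) (rQ 1)]
        exact inv_mem (mem_zpowers _)
      · rw [E2.ctx.eq h10 (((rP 2).c (rP 1)).c (rQ 2)) ((rP 1).iter _)]
        exact pow_mem (mem_zpowers _) _
    have h12 := List.toFinset_card_of_nodup (fresh_spec nf_ok).1
    rw [length_flat, length_flat, length_flat, length_orbL, ← Set.ncard_coe_finset] at h12
    refine (Set.eq_of_subset_of_ncard_le h11 ?_).ge (CL.FiN.mem_normalizer_zpowers.2 hn)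
    rw [← Nat.card_coe_set_eq]
    refine (card_norm11 T.ord_y).le.trans (h12.ge.trans ((Set.ncard_le_ncard (fun q hq => ?_)
      ((Set.toFinite S).image fun z => Fi23.φ z 0)).trans (Set.ncard_image_le (Set.toFinite S))))
    simp only [List.coe_toFinset, Set.mem_setOf_eq, List.mem_flatMap] at hq
    obtain ⟨q1, ⟨q2, ⟨q3, g1, g2⟩, g3⟩, g4⟩ := hq
    obtain ⟨i, hi, rfl⟩ := (rP 1).mem_orbL (z := 1) (by rwa [map_one])
    obtain ⟨j, hj, rfl⟩ := (rP 2).mem_orbL g2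
    obtain ⟨m, hm, rfl⟩ := (rP 4).mem_orbL g3
    obtain ⟨e, he, rfl⟩ := (rP 3).mem_orbL g4
    exact ⟨_, ⟨e, he, m, hm, j, hj, i, hi, by simp only [mul_one, mul_assoc]⟩, rfl⟩
  · have := allLt_iff.1 (allLt_iff.1 (allLt_iff.1 iv_ok e he) m hm) j hj
    rw [Bool.or_eq_true, Bool.and_eq_true, Nat.beq_eq, Nat.beq_eq] at this
    have c := (rcF e m).c ((rP 2).iter j)
    exact this.resolve_right fun h' => Rp.ne h' (((rP 1).c c).c (rP 1)) c h
  · have := allLt_iff.1 (allLt_iff.1 (allLt_iff.1 cub_ok e he) m hm) i hi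
    rw [Bool.or_eq_true, Bool.or_eq_true, Bool.and_eq_true, Nat.beq_eq, Nat.beq_eq,
      Nat.beq_eq] at this
    refine (this.resolve_left fun h' => ?_).resolve_right fun h' =>
      Rp.ne h' ((((rcF e m).c ((rP 1).iter i)).c (rP 0)).iter 3) rep_id h
    change m % 2 = 0 at h'
    omega

section

variable {t : BabyMonster} (hS : ∀ e < 1739, Holds lam ψ0 t E2.pt.get (E2.st.get e))
include hS

local notation "γ" => fun i => node lam ψ0 t (E2.pt.get i)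

theorem wk_spec {R st i : ℕ} {X : ℕ → ℕ} {k : ℕ → (ℕ → ℕ) → (ℕ → ℕ) → Bool} {x : Fi23}
    (h : wk R st i X k = true) (hX : Rp X x) : ∃ c B X' b x', Rp B b ∧ Rp X' x' ∧
      k c B X' = true ∧ γ i * ψ0 x * node lam ψ0 t R = ψ0 b * γ c * ψ0 x' := by
  obtain ⟨_, c, B, X', b, x', h1, h2, h3, h4⟩ := E2.ctx.walk_spec hS _ rep_id hX h
  exact ⟨c, B, X', b, x', h1, h2, h3, by rwa [map_one, one_mul] at h4⟩

theorem wE_spec {st i : ℕ} {X Z : ℕ → ℕ} {x z : Fi23} (h : wE st i X Z = true) (hX : Rp X x)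
    (hZ : Rp Z z) : γ i * ψ0 x * node lam ψ0 t (dls.getD i 0) = ψ0 z := by
  obtain ⟨c, B, X', b, x', h1, h2, h3, h4⟩ := wk_spec hS h hX
  rw [Bool.and_eq_true, Nat.beq_eq] at h3
  obtain ⟨rfl, h3⟩ := h3
  rw [h4, ← E2.ctx.eq h3 (h1.c h2) hZ, map_mul]
  simp only [E2.ctx.node_zero, mul_one]

theorem o_ok : ∀ i ∈ [6, 7, 15, 19, 20, 21], oOK i = true := by
  simp only [List.forall_mem_cons]
  exact ⟨o6, o7, o15, o19, o20, o21, List.forall_mem_nil _⟩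

theorem dl_eq {i : ℕ} (hi : i ∈ [6, 7, 15, 19, 20, 21]) :
    node lam ψ0 t (dls.getD i 0) = (γ i)⁻¹ := by
  have := wE_spec hS (Bool.and_eq_true_iff.1 (o_ok hS i hi)).1 rep_id rep_id
  rw [map_one, mul_one] at this
  exact eq_inv_of_mul_eq_one_right this

theorem wT_spec {st i : ℕ} (hi : i ∈ [6, 7, 15, 19, 20, 21]) {X : ℕ → ℕ} {k : ℕ → Bool} {x : Fi23}
    (h : wT st i X k = true) (hX : Rp X x) : ∃ c, k c = true ∧ Ty γ (γ i * ψ0 x * (γ i)⁻¹) c := by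
  obtain ⟨c, B, X', b, x', -, -, h3, h4⟩ := wk_spec hS h hX
  exact ⟨c, h3, b, x', dl_eq hS hi ▸ h4⟩

theorem wT_mem {st i : ℕ} (hi : i ∈ [6, 7, 15, 19, 20, 21]) {X : ℕ → ℕ} {x : Fi23}
    (h : wT st i X (fun c => Nat.beq c 0) = true) (hX : Rp X x) :
    γ i * ψ0 x * (γ i)⁻¹ ∈ ψ0.range := by
  obtain ⟨c, h1, v, w, h2⟩ := wT_spec hS hi h hX
  refine ⟨v * w, ?_⟩
  rw [h2, Nat.eq_of_beq_eq_true h1, map_mul]
  simp only [E2.ctx.node_zero, mul_one]

theorem cert : Cert γ (E 0) (E 1) (E 2) (E 3) (E 4) (E 5) E fun e => E (8 + e) := by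
  have lt : ∀ i ∈ [6, 7, 15, 19, 20, 21], i < 22 := by decide
  have s := s_ok
  simp only [sOK, Bool.and_eq_true] at s
  refine ⟨?_, ?_, ?_, fun i hi => ?_, fun i hi => ?_, fun i hi e he m hm => ?_, fun e he => ?_,
    fun e he e' he' m hm hm' => ?_, ?_⟩
  · exact dl_eq hS (i := 6) (by simp) ▸ wE_spec hS s.1 (rP 0) (((rQ 5).c (rP 0)).c (rP 5))
  · exact dl_eq hS (i := 6) (by simp) ▸ wE_spec hS s.2.1 (rP 1) (((rQ 5).c (rP 1)).c (rP 5))
  · obtain ⟨c, h1, h2⟩ := wT_spec hS (by simp) s.2.2 ((rP 3).c (rP 4))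
    exact Nat.eq_of_beq_eq_true h1 ▸ h2
  · exact wT_mem hS hi (Bool.and_eq_true_iff.1 (Bool.and_eq_true_iff.1 (o_ok hS i hi)).2).1
      (((rP i).c (rP 1)).c (rQ i (lt i hi)))
  · exact wT_mem hS hi (Bool.and_eq_true_iff.1 (Bool.and_eq_true_iff.1 (o_ok hS i hi)).2).2
      (((rP i).c (rP 2)).c (rQ i (lt i hi)))
  · have h0 : ∀ i ∈ [6, 7, 15, 19, 20, 21], ∀ e ∈ [0, 1], tOK i e = true := by
      simp only [List.forall_mem_cons]
      have n := fun p => List.forall_mem_nil (α := ℕ) p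
      exact ⟨⟨t6_0, t6_1, n _⟩, ⟨t7_0, t7_1, n _⟩, ⟨t15_0, t15_1, n _⟩, ⟨t19_0, t19_1, n _⟩,
        ⟨t20_0, t20_1, n _⟩, ⟨t21_0, t21_1, n _⟩, n _⟩
    obtain ⟨c, h1, h2⟩ := wT_spec hS hi (allLt_iff.1 (h0 i hi e (by simp; omega)) m hm)
      (((rvF i e m).c (rP 0)).c (rvI i e m (lt i hi)))
    simp only [Bool.and_eq_true, Bool.or_eq_true, Nat.blt_eq, Nat.beq_eq, Bool.not_eq_true'] at h1
    exact ⟨c, h1.1, h2, fun e => h1.2.resolve_left (by rw [e, Nat.beq_refl]; simp)⟩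
  · have h0 : lOK e = true := by
      interval_cases e
      exacts [l0, l1]
    exact dl_eq hS (i := 20) (by simp) ▸ wE_spec hS h0 (((rvF 20 e 1).c (rP 1)).c (rvI 20 e 1))
      (((rP _).c (rP 1)).c (rQ (8 + e)))
  · have h0 : qOK e = true := by
      interval_cases e
      exacts [q0, q1]
    obtain ⟨n, rfl⟩ : ∃ n, m = 2 * n + 1 := ⟨m / 2, by omega⟩
    obtain ⟨c, B, X', b, x', -, -, h3, h4⟩ := wk_spec hS
      (allLt_iff.1 (allLt_iff.1 h0 e' he') n (by omega))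
      (((rvF 20 e 1).c (rcI e' (2 * n + 1))).c (rQ (8 + e)))
    rw [Bool.and_eq_true, Nat.blt_eq, Nat.blt_eq] at h3
    exact ⟨c, h3.1, h3.2, b, x', h4⟩
  · obtain ⟨c, B, X', b, x', -, h2, h3, h4⟩ := wk_spec hS u_ok (((rP 19).c (rQ 3)).c (rP 5))
    obtain ⟨c', B', X'', b', x'', -, -, h5, h6⟩ := wk_spec hS h3 (h2.c ((rP 3).c (rQ 19)))
    rw [dl_eq hS (by simp), Nat.eq_of_beq_eq_true h5] at h6
    refine ⟨b * b', x'', ?_⟩
    rw [map_mul _ b, mul_assoc (ψ0 b), mul_assoc (ψ0 b), ← h6]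
    refine (congrArg (· * _ * _) h4).trans ?_
    simp only [map_mul, map_inv, mul_inv_rev, inv_inv, mul_assoc]

end

theorem l2_23 {F : Type*} [Field F] [Fintype F] (hF : Fintype.card F = 23) :
    (∃ H : Subgroup BabyMonster, Nonempty (H ≃* Matrix.ProjectiveSpecialLinearGroup (Fin 2) F)) ∧
    (∀ H₁ H₂ : Subgroup BabyMonster,
      Nonempty (H₁ ≃* Matrix.ProjectiveSpecialLinearGroup (Fin 2) F) →
      Nonempty (H₂ ≃* Matrix.ProjectiveSpecialLinearGroup (Fin 2) F) →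
      ∃ g : BabyMonster, H₂ = H₁.map (MulAut.conj g).toMonoidHom) ∧
    (∀ H : Subgroup BabyMonster, Nonempty (H ≃* Matrix.ProjectiveSpecialLinearGroup (Fin 2) F) →
      normalizer (H : Set BabyMonster) = H ∧
        ∃ M : Subgroup BabyMonster, IsCoatom M ∧ IsoFi23 M ∧ H ≤ M) := by
  obtain ⟨t, ht, hS⟩ := E2.holds
  exact main (bt_of E2.ctx ht hS (τ := tauL DL) (fun _ => rfl)
    (E2.ctx.cov_all A.rep_pb model liftX validX kl_mem ht.hK hS lenB allD)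
    (sep_of_masks lenB (by norm_num) allD rowsB sepB) nodesB) (by decide +kernel) hf (cert hS) hF

end CL.BL
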